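import Cfsg.Agent.Class.Dim3.Norm

/-! Involutions in `L₂(7)`, `A₆`, `A₇` and in the normaliser of `3.A₆`. -/

set_option autoImplicit false

namespace Cfsg.Agent.Class.Dim5

open Cfsg.Geo Cfsg.Agent.Class.Asch Cfsg.Agent.Class.Dickson Matrix Equiv Cfsg.Agent.KSG.M2
open Cfsg.Agent.Class.Dim3
open scoped MatrixGroups commutatorElement

/-- every involution is the central involution of a dihedral group of order eight -/
def D8P (X : Type*) [Group X] : Prop := ∀ t : X, t * t = 1 → t ≠ 1 →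
  ∃ s h : X, s * s = 1 ∧ h * h = 1 ∧ s * t = t * s ∧ h * t = t * h ∧ s * h * (s * h) = t

theorem D8P.of_equiv {X Y : Type*} [Group X] [Group Y] (e : X ≃* Y) (h : D8P Y) : D8P X :=
  fun t a b => by
    obtain ⟨s, k, h1, h2, h3, h4, h5⟩ := h (e t) (by rw [← map_mul, a, map_one])
      (by rwa [Ne, e.map_eq_one_iff])
    exact ⟨e.symm s, e.symm k, e.injective (by simpa using h1), e.injective (by simpa using h2),
      e.injective (by simpa using h3), e.injective (by simpa using h4),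
      e.injective (by simpa using h5)⟩

theorem d8p_alt {n : ℕ} (hn : n ≤ 7) (t s h : Perm (Fin n)) (h0 : t.cycleType = {2, 2})
    (h1 : Perm.sign s = 1 ∧ Perm.sign h = 1 ∧ s * s = 1 ∧ h * h = 1 ∧ s * t = t * s ∧
      h * t = t * h ∧ s * h * (s * h) = t) : D8P (alternatingGroup (Fin n)) := by
  rintro ⟨σ, hσ⟩ a b
  have a' : σ ^ 2 = 1 := by rw [sq]; exact congrArg Subtype.val a
  have e := Perm.cycleType_of_pow_prime_eq_one a'
  have e1 := Perm.sign_of_cycleType σ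
  have e2 := Perm.sum_cycleType_le σ
  have e3 : σ.cycleType ≠ 0 := fun e => b (Subtype.ext (Perm.cycleType_eq_zero.1 e))
  generalize σ.cycleType.card = k at e
  rw [e] at e1 e2 e3
  rw [Perm.mem_alternatingGroup.1 hσ] at e1
  simp only [Multiset.sum_replicate, smul_eq_mul, Multiset.card_replicate, Fintype.card_fin] at e1 e2
  obtain rfl : k = 2 := by
    have : k ≤ 3 := by omega
    interval_cases k
    · simp at e3
    · exact absurd e1 (by decide)
    · rfl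
    · exact absurd e1 (by decide)
  obtain ⟨c, rfl⟩ := isConj_iff.1 (Perm.isConj_of_cycleType_eq (h0.trans e.symm))
  obtain ⟨s1, s2, s3, s4, s5, s6, s7⟩ := h1
  refine ⟨⟨c * s * c⁻¹, by simp [Perm.mem_alternatingGroup, s1]⟩,
    ⟨c * h * c⁻¹, by simp [Perm.mem_alternatingGroup, s2]⟩, Subtype.ext ?_, Subtype.ext ?_,
    Subtype.ext ?_, Subtype.ext ?_, Subtype.ext ?_⟩ <;>
    simp only [Subgroup.coe_mul, conj_mul, OneMemClass.coe_one, s3, s4, s5, s6, s7, mul_one,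
      mul_inv_cancel]

theorem d8p_six : D8P (alternatingGroup (Fin 6)) :=
  d8p_alt (by decide) (swap 0 1 * swap 2 3) (swap 0 1 * swap 4 5) (swap 0 2 * swap 1 3)
    (by decide +kernel) (by decide +kernel)

theorem d8p_seven : D8P (alternatingGroup (Fin 7)) :=
  d8p_alt (by decide) (swap 0 1 * swap 2 3) (swap 0 1 * swap 4 5) (swap 0 2 * swap 1 3)
    (by decide +kernel) (by decide +kernel)

/-- the configuration of involutions in `L₂(7)` -/
structure L7P (X : Type*) [Group X] : Prop where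
  cls : ∀ s t : X, s * s = 1 → s ≠ 1 → t * t = 1 → t ≠ 1 → IsConj s t
  conf : ∃ a b c g h d : X, (∀ x ∈ [a, b, c, g, h, d], x * x = 1 ∧ x ≠ 1) ∧
    (∀ p ∈ [(a, b), (a, c), (b, c), (g, c), (h, a), (d, h)], (p.1 * p.2) ^ 2 = 1 ∧ p.1 * p.2 ≠ 1) ∧
    (∀ p ∈ [(g, a), (h, b), (d, a), (d, g)], (p.1 * p.2) ^ 4 = 1 ∧ (p.1 * p.2) ^ 2 ≠ 1) ∧
    (d * b) ^ 3 = 1 ∧ d * b ≠ 1

theorem L7P.of_equiv {X Y : Type*} [Group X] [Group Y] (e : X ≃* Y) (h : L7P Y) : L7P X where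
  cls s t a b c d := isConj_of_equiv e (h.cls _ _ (by rw [← map_mul, a, map_one])
    (by rwa [Ne, e.map_eq_one_iff]) (by rw [← map_mul, c, map_one]) (by rwa [Ne, e.map_eq_one_iff]))
  conf := by
    obtain ⟨a, b, c, g, k, d, h1, h2, h3, h4⟩ := h.conf
    refine ⟨e.symm a, e.symm b, e.symm c, e.symm g, e.symm k, e.symm d, ?_⟩
    simpa only [List.mem_cons, List.not_mem_nil, or_false, forall_eq_or_imp, forall_eq, ← map_mul,
      ← map_pow, ne_eq, MulEquiv.map_eq_one_iff] using And.intro h1 (And.intro h2 (And.intro h3 h4))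

theorem sl32_cls : ∀ a b c d e f g h i : ZMod 2, !![a, b, c; d, e, f; g, h, i] *
    !![a, b, c; d, e, f; g, h, i] = 1 → !![a, b, c; d, e, f; g, h, i] = 1 ∨
    ∃ M ∈ [!![1, 0, 0; 0, 1, 0; 1, 0, 1], !![1, 0, 0; 1, 1, 0; 1, 0, 1], !![1, 0, 0; 1, 0, 1; 0, 1, 0],
      !![1, 0, 0; 1, 0, 1; 1, 1, 0], !![1, 0, 0; 0, 1, 0; 1, 1, 1], !![1, 0, 0; 1, 1, 0; 0, 1, 1],
      !![0, 1, 0; 1, 0, 0; 1, 0, 1], !![0, 1, 0; 0, 0, 1; 1, 0, 0], !![0, 0, 1; 0, 1, 0; 1, 0, 0],
      !![0, 1, 0; 0, 1, 1; 1, 0, 0], !![0, 1, 0; 1, 0, 0; 0, 0, 1], !![0, 1, 0; 1, 0, 0; 1, 1, 1],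
      !![0, 0, 1; 1, 0, 0; 0, 1, 0], !![0, 0, 1; 1, 0, 0; 1, 1, 0], !![0, 1, 0; 1, 0, 0; 0, 1, 1],
      !![1, 0, 0; 0, 1, 0; 0, 0, 1], !![1, 0, 0; 1, 1, 0; 0, 0, 1], !![1, 0, 0; 0, 0, 1; 0, 1, 0],
      !![1, 0, 0; 0, 0, 1; 1, 1, 0], !![1, 0, 0; 1, 1, 0; 1, 1, 1], !![1, 0, 0; 0, 1, 0; 0, 1, 1]],
      Matrix.det (M : Matrix (Fin 3) (Fin 3) (ZMod 2)) = 1 ∧
      M * !![1, 0, 1; 0, 1, 0; 0, 0, 1] = !![a, b, c; d, e, f; g, h, i] * M := by
  decide +kernel

/-- an element of `SL₃(2)` -/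
def sl32 (M : Matrix (Fin 3) (Fin 3) (ZMod 2)) (h : M.det = 1 := by decide) : SL(3, ZMod 2) := ⟨M, h⟩

theorem l7p_sl : L7P SL(3, ZMod 2) where
  cls s t a b c d := by
    have key : ∀ s : SL(3, ZMod 2), s * s = 1 → s ≠ 1 →
        IsConj (sl32 !![1, 0, 1; 0, 1, 0; 0, 0, 1]) s := fun s a b => by
      have : s.1 * s.1 = 1 := congrArg Subtype.val a
      rw [eta_fin_three s.1] at this
      rcases sl32_cls _ _ _ _ _ _ _ _ _ this with h | ⟨M, -, h1, h2⟩
      · exact absurd (Subtype.ext ((eta_fin_three s.1).trans h)) b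
      · rw [← eta_fin_three s.1] at h2
        exact isConj_iff.2 ⟨sl32 M h1, mul_inv_eq_iff_eq_mul.2 (Subtype.ext h2)⟩
    exact (key s a b).symm.trans (key t c d)
  conf := ⟨sl32 !![1, 0, 1; 0, 1, 0; 0, 0, 1], sl32 !![1, 0, 0; 0, 1, 1; 0, 0, 1],
    sl32 !![1, 0, 1; 0, 1, 1; 0, 0, 1], sl32 !![0, 1, 0; 1, 0, 0; 0, 0, 1],
    sl32 !![1, 1, 0; 0, 1, 0; 0, 0, 1], sl32 !![1, 0, 0; 0, 1, 0; 0, 1, 1], by
      simp only [List.mem_cons, List.not_mem_nil, or_false, forall_eq_or_imp, forall_eq, ne_eq,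
        pow_succ, pow_zero, one_mul]
      decide +kernel⟩

theorem l7p_psl : L7P PSL(3, ZMod 2) := by
  refine L7P.of_equiv (MulEquiv.ofBijective (QuotientGroup.mk' (Subgroup.center SL(3, ZMod 2)))
    ⟨(injective_iff_map_eq_one _).2 fun g hg => ?_, QuotientGroup.mk'_surjective _⟩).symm l7p_sl
  obtain ⟨r, h1, h2⟩ := Matrix.SpecialLinearGroup.mem_center_iff.1 ((QuotientGroup.eq_one_iff g).1 hg)
  have : r = 1 := by clear h2; revert r; decide
  exact Subtype.ext (by rw [← h2, this, map_one]; rfl)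

variable {F : Type*} [Field F] {G : Subgroup (G3 F)}

theorem exists_om (hG : QS G) (h3 : (3 : F) ≠ 0) {x y : G} (hc : pj G (x * y) = pj G (y * x))
    (ht : ∀ p q : Fin 3 × Fin 3, p ≠ q →
      trc ((x ^ p.1.1 * y ^ p.2.1 * (x ^ q.1.1 * y ^ q.2.1)⁻¹ : G) : G3 F) = 0) :
    ∃ c ∈ scalars (Fin 3) F, c ≠ 1 ∧ c ^ 3 = 1 ∧ (x : G3 F) * y = c * (y * x) := by
  refine ⟨(x : G3 F) * y * ((y : G3 F) * x)⁻¹, pj_eq_iff.1 hc, fun e => ?_,
    pow_three_of_scalar (det_eq_one hG.perfect (x * y * (y * x)⁻¹).2) (pj_eq_iff.1 hc), by group⟩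
  have k : Commute (x : G3 F) y := mul_inv_eq_one.1 e
  exact false_of_nine h3 (fun p => (x : G3 F) ^ p.1.1 * (y : G3 F) ^ p.2.1)
    (fun p q => (((Commute.refl _).pow_pow _ _).mul_left (k.symm.pow_pow _ _)).mul_right
      ((k.pow_pow _ _).mul_left ((Commute.refl _).pow_pow _ _))) ht

theorem ca7_om (hG : QS G) (h : CA7 G) : ∃ z ∈ G, z ≠ 1 ∧ z ∈ scalars (Fin 3) F := by
  obtain ⟨e⟩ := h.iso
  let u : alternatingGroup (Fin 7) := ⟨swap 0 1 * swap 1 2, by simp [Perm.mem_alternatingGroup]⟩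
  let v : alternatingGroup (Fin 7) := ⟨swap 3 4 * swap 4 5, by simp [Perm.mem_alternatingGroup]⟩
  obtain ⟨x, hx⟩ := (e.surjective.comp pj_surj) u
  obtain ⟨y, hy⟩ := (e.surjective.comp pj_surj) v
  rw [Function.comp_apply] at hx hy
  obtain ⟨c, c1, c2, -, c3⟩ := exists_om hG (fun h3 => one_ne_zero (α := F) (by
      linear_combination 2 * h3 - h.five)) (x := x) (y := y)
    (e.injective (by simp only [map_mul, hx, hy]; decide)) fun p q hpq => by
      have e1 : e (pj G (x ^ p.1.1 * y ^ p.2.1 * (x ^ q.1.1 * y ^ q.2.1)⁻¹)) =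
          u ^ p.1.1 * v ^ p.2.1 * (u ^ q.1.1 * v ^ q.2.1)⁻¹ := by
        simp only [map_mul, map_inv, map_pow, hx, hy]
      generalize x ^ p.1.1 * y ^ p.2.1 * (x ^ q.1.1 * y ^ q.2.1)⁻¹ = g at e1
      have e2 : e (pj G g) ^ 3 = 1 := by rw [e1]; clear hpq e1; revert p q; decide +kernel
      have e3 : e (pj G g) ≠ 1 := by rw [e1]; clear e1 e2; revert p q; decide +kernel
      refine (trc_of_cube (det_eq_one hG.perfect g.2) (congrArg Subtype.val (cube_eq_one hG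
        (by rw [← e.map_eq_one_iff, map_pow, e2]) (isConj_of_equiv e ?_))) fun h2 => e3 ?_).1
      · rw [map_inv]; exact a7_real _ e2
      · rw [pj_eq_one.2 h2, map_one]
  refine ⟨c, ?_, c2, c1⟩
  rw [← mul_inv_eq_iff_eq_mul] at c3
  exact c3 ▸ (x * y * (y * x)⁻¹).2

theorem m10_aux : ∀ a b c d : GF9, a * d - b * c = 1 →
    ∃ s ∈ [(!![1, 1; 0, 1] : Matrix (Fin 2) (Fin 2) GF9), !![1, 0; 1, 1]], s.det = 1 ∧
      let M : Matrix (Fin 2) (Fin 2) GF9 := !![a, b; c, d] * !![⟨1, 1⟩, 0; 0, 1]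
      s * (M * M.map star) ≠ M * M.map star * s ∧ -s * (M * M.map star) ≠ M * M.map star * s := by
  decide +kernel

theorem m10_sl (g : SL(2, GF9)) (θ : SL(2, GF9) → SL(2, GF9))
    (h : ∀ s, (θ s).1 = g.1 * (!![⟨1, 1⟩, 0; 0, 1] * s.1.map star * !![⟨2, 1⟩, 0; 0, 1]) * (g⁻¹).1) :
    ∃ s, θ (θ s) ≠ s ∧ θ (θ s) ≠ -s := by
  obtain ⟨s, -, h0, h1, h2⟩ := m10_aux _ _ _ _ ((det_fin_two g.1).symm.trans g.2)
  rw [← eta_fin_two g.1] at h1 h2
  set M : Matrix (Fin 2) (Fin 2) GF9 := g.1 * !![⟨1, 1⟩, 0; 0, 1] with hM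
  have k : ∀ s, (θ s).1 * M = M * s.1.map star := fun s => by
    have e1 : (g⁻¹).1 * g.1 = 1 := congrArg Subtype.val (inv_mul_cancel g)
    have e2 : (!![⟨2, 1⟩, 0; 0, 1] * !![⟨1, 1⟩, 0; 0, 1] : Matrix (Fin 2) (Fin 2) GF9) = 1 := by decide
    rw [h, hM, Matrix.mul_assoc, ← Matrix.mul_assoc (g⁻¹).1, e1, Matrix.one_mul, Matrix.mul_assoc,
      Matrix.mul_assoc, e2, Matrix.mul_one, Matrix.mul_assoc]
  obtain ⟨s, rfl⟩ : ∃ s' : SL(2, GF9), s = s'.1 := ⟨⟨s, h0⟩, rfl⟩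
  have k2 : (θ (θ s)).1 * (M * M.map star) = M * M.map star * s.1 := by
    have e : ∀ A B : Matrix (Fin 2) (Fin 2) GF9, (A * B).map star = A.map star * B.map star :=
      fun A B => Matrix.map_mul (f := starRingEnd GF9)
    have e' : (s.1.map star).map star = s.1 := Matrix.ext fun i j => star_star _
    rw [← Matrix.mul_assoc, k, Matrix.mul_assoc, ← e, k, e, e', ← Matrix.mul_assoc]
  exact ⟨s, fun e => h1 (by rwa [e] at k2), fun e => h2 (by rwa [e] at k2)⟩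

/-- The normaliser of `3.A₆` has no outer involutions. -/
theorem c6_invol (hG : QS G) (h : C6 G) {t : G3 F} (ht : t ∈ subgroupNormalizer G)
    (t2 : t * t = 1) : t ∈ G ⊔ scalars (Fin 3) F := by
  have := isSimple_PG hG
  obtain ⟨K, _, _, hK, ⟨e₀⟩⟩ := h.iso
  let e := e₀.trans (pslCongr _ (ringEquivGF9 hK))
  let δ : SL(2, GF9) ≃* SL(2, GF9) :=
    LowDim.slConj !![⟨1, 1⟩, 0; 0, 1] !![⟨2, 1⟩, 0; 0, 1] (by decide)
  let φ : SL(2, GF9) ≃* SL(2, GF9) := slCongr _ starRingAut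
  have ap : ∀ (θ : SL(2, GF9) ≃* SL(2, GF9)) (x : PG G) (s : SL(2, GF9)), e x = pr s →
      e ((MulAut.congr e).symm (quotCenterCongr θ) x) = pr (θ s) := fun θ x s hx => by
    simp only [MulAut.congr_symm_apply, MulEquiv.trans_apply, MulEquiv.apply_symm_apply, hx]
    rfl
  obtain ⟨x, hx⟩ := (e.surjective.comp pj_surj) (pr u9)
  obtain ⟨y, hy⟩ := (e.surjective.comp pj_surj) (pr v9)
  rw [Function.comp_apply] at hx hy
  obtain ⟨c, hc, c1, c3, hcc⟩ := exists_om hG h.ne (x := x) (y := y) (e.injective (by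
      simp only [map_mul, hx, hy]; rw [← map_mul, ← map_mul]; exact congrArg pr (by decide)))
    fun p q hpq => by
      have e1 : e (pj G (x ^ p.1.1 * y ^ p.2.1 * (x ^ q.1.1 * y ^ q.2.1)⁻¹)) =
          pr (u9 ^ p.1.1 * v9 ^ p.2.1 * (u9 ^ q.1.1 * v9 ^ q.2.1)⁻¹) := by
        simp only [map_mul, map_inv, map_pow, hx, hy]
      refine trc_three_of_nine hG e ?_ ?_
      · rw [← e.map_eq_one_iff, map_pow, e1, ← map_pow, pr_eq_one_iff']
        clear hpq e1; revert p q; decide +kernel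
      · rw [Ne, ← e.map_eq_one_iff, e1, pr_eq_one_iff']
        clear e1; revert p q; decide +kernel
  set a := (MulAut.congr e).symm (quotCenterCongr δ)
  set b := (MulAut.congr e).symm (quotCenterCongr φ)
  have h4 : (inn (PG G)).index = 4 :=
    index_inn e (not_comm_PG hG) (card_aut_psl2 3 2 4 (by omega) card_GF9 card_GF9 (by omega))
  have ha : a ∉ (aut G).range := by
    rintro ⟨n, hn⟩
    have := comm_rel hc (h := n) (a := x * y) (b := x⁻¹ * y)
      (e.injective (by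
        rw [hn, ap _ _ _ hx, map_mul, map_mul, hx, hy, ← map_mul]
        exact congrArg pr (by decide +kernel)))
      (e.injective (by
        rw [hn, ap _ _ _ hy, map_mul, map_mul, map_inv, map_inv, hx, hy, ← map_inv, ← map_mul]
        exact congrArg pr (by decide +kernel))) hcc
    simp only [Subgroup.coe_mul, Subgroup.coe_inv] at this
    refine c1 (mul_right_cancel (b := (y : G3 F) * y) ?_)
    calc c * ((y : G3 F) * y) = c * (y * x) * ((x : G3 F)⁻¹ * y) := by group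
      _ = c * (x : G3 F)⁻¹ * (y * x) * y := by rw [← hcc, this]; group
      _ = (x : G3 F)⁻¹ * (c * (y * x)) * y := by rw [scalars_comm' hc]; group
      _ = 1 * (y * y) := by rw [← hcc]; group
  have hb : b ∉ (aut G).range := by
    rintro ⟨n, hn⟩
    have := comm_rel hc (h := n) (a := x) (b := y⁻¹)
      (e.injective (by rw [hn, ap _ _ _ hx, hx]; exact congrArg pr (by decide +kernel)))
      (e.injective (by
        rw [hn, ap _ _ _ hy, map_inv, map_inv, hy, ← map_inv]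
        exact congrArg pr (by decide +kernel))) hcc
    simp only [Subgroup.coe_inv] at this
    have c2 : c * c = 1 := mul_right_cancel (b := (x : G3 F)) (by
      calc c * c * x = c * ((y : G3 F)⁻¹ * (c * (y * x))) := by
            rw [← mul_assoc (y : G3 F)⁻¹ c, ← scalars_comm' hc (y : G3 F)⁻¹]; group
        _ = c * ((y : G3 F)⁻¹ * x) * y := by rw [← hcc]; group
        _ = 1 * x := by rw [← this]; group)
    exact c1 (by rwa [pow_succ, sq, c2, one_mul] at c3)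
  have bb : b * b = 1 := by
    ext z
    obtain ⟨s, hs⟩ : ∃ s, pr s = e z := QuotientGroup.mk_surjective (e z)
    refine e.injective ?_
    rw [MulAut.mul_apply, ap _ _ _ (ap _ _ _ hs.symm), MulAut.one_apply, ← hs]
    refine congrArg pr (Subtype.ext (Matrix.ext fun i j => star_star _))
  have m10 : ∀ w : PG G, (MulAut.conj w * (a * b)) * (MulAut.conj w * (a * b)) ≠ 1 := fun w hw => by
    obtain ⟨g, hs⟩ : ∃ g, pr g = e w := QuotientGroup.mk_surjective (e w)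
    obtain ⟨s, s1, s2⟩ := m10_sl g (fun s => g * δ (φ s) * g⁻¹) fun s => rfl
    have k : ∀ z s, e z = pr s → e ((MulAut.conj w * (a * b)) z) = pr (g * δ (φ s) * g⁻¹) :=
      fun z s hz => by
        rw [MulAut.mul_apply, MulAut.mul_apply, MulAut.conj_apply, map_mul, map_mul, map_inv,
          ap _ _ _ (ap _ _ _ hz), ← hs, map_mul, map_mul, map_inv]
    have := k _ _ (k _ s (e.apply_symm_apply _))
    rw [← MulAut.mul_apply, hw, MulAut.one_apply, e.apply_symm_apply, eq_comm, ← mul_inv_eq_one,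
      ← map_inv, ← map_mul, pr_eq_one_iff'] at this
    rcases this with h | h
    · exact s1 (mul_inv_eq_one.1 h)
    · exact s2 (by rw [mul_inv_eq_iff_eq_mul.1 h, neg_one_mul])
  by_contra hne
  have n0 : aut G ⟨t, ht⟩ ∉ inn (PG G) := fun k => hne (by
    have : (⟨t, ht⟩ : subgroupNormalizer G) ∈ (inn (PG G)).comap (aut G) := k
    rwa [comap_inn hG] at this)
  have : (inn (PG G)).Normal := ⟨by
    rintro _ ⟨w, rfl⟩ g
    exact ⟨g w, by ext z; simp⟩⟩
  let π := QuotientGroup.mk' (inn (PG G))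
  have π1 : ∀ z, π z = 1 ↔ z ∈ inn (PG G) := QuotientGroup.eq_one_iff
  have ne : ∀ z ∉ (aut G).range, π (aut G ⟨t, ht⟩) ≠ π z := fun z hz k => hz (by
    have := inn_le ((π1 ((aut G ⟨t, ht⟩)⁻¹ * z)).1 (by rw [map_mul, map_inv, k, inv_mul_cancel]))
    exact (Subgroup.mul_mem_cancel_left _ (Subgroup.inv_mem _ (MonoidHom.mem_range.2 ⟨_, rfl⟩))).1 this)
  have a1 : π a ≠ 1 := fun k => ha (inn_le ((π1 _).1 k))
  have b1 : π b ≠ 1 := fun k => hb (inn_le ((π1 _).1 k))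
  have ab : π a * π b ≠ 1 := fun k => by
    obtain ⟨w, hw⟩ := (π1 (a * b)⁻¹).1 (by rw [map_inv, map_mul, k, inv_one])
    exact m10 w (by rw [hw]; simp)
  have ab' : π a ≠ π b := fun k => ab (by rw [k, ← map_mul, bb, map_one])
  have hcard : Nat.card (MulAut (PG G) ⧸ inn (PG G)) = 4 := h4
  have : Finite (MulAut (PG G) ⧸ inn (PG G)) := Nat.finite_of_card_ne_zero (by omega)
  have key : π (aut G ⟨t, ht⟩) = π a * π b := by
    by_contra k
    classical
    have := Fintype.ofFinite (MulAut (PG G) ⧸ inn (PG G))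
    have := Finset.card_le_univ ({π (aut G ⟨t, ht⟩), 1, π a, π b, π a * π b} : Finset _)
    rw [← Nat.card_eq_fintype_card, hcard, Finset.card_insert_of_notMem, Finset.card_insert_of_notMem,
      Finset.card_insert_of_notMem, Finset.card_pair] at this
    · omega
    · simpa using a1
    · simpa using ⟨ab', b1⟩
    · simpa using ⟨a1.symm, b1.symm, ab.symm⟩
    · simpa using ⟨mt (π1 _).1 n0, ne a ha, ne b hb, k⟩
  obtain ⟨w, hw⟩ := (π1 (aut G ⟨t, ht⟩ * (a * b)⁻¹)).1 (by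
    rw [map_mul, map_inv, key, map_mul, mul_inv_cancel])
  refine m10 w ?_
  rw [hw, inv_mul_cancel_right, ← map_mul, show (⟨t, ht⟩ * ⟨t, ht⟩ : subgroupNormalizer G) = 1 from
    Subtype.ext t2, map_one]

end Cfsg.Agent.Class.Dim5
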